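import Groth.Agent.Lefpen.H872.RelSmooth
import Groth.Agent.Variety.K658.RelDimComp

/-!
# The rank of the Jacobian matrix of a smooth projective scheme at a rational point

* `le_rank`: `Y = V(G_1..G_e) ⊆ P^N_k` smooth of dimension at most `D`: the gradients of the `G_j` at a rational point
  span a space of dimension at least `N - D`.
-/

set_option autoImplicit false
universe u

open CategoryTheory AlgebraicGeometry Limits TopologicalSpace Opposite MvPolynomial TensorProduct

namespace K544.RankJac

open Groth.Agent.Lefpen.H872.RelCI Groth.Agent.Lefpen.H872.RelBase Groth.Agent.Lefpen.H872.RelSmooth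
open Groth.Agent.Sga5

/-- The rank of differentials of polynomials. -/
theorem finrank_span_D {R : Type u} [CommRing R] {N : ℕ} {κ : Type u} [Field κ]
    [Algebra (MvPolynomial (Fin N) R) κ] {ι : Type} (g : ι → MvPolynomial (Fin N) R) :
    Module.finrank κ (Submodule.span κ (Set.range fun j => (1 : κ) ⊗ₜ[MvPolynomial (Fin N) R]
      KaehlerDifferential.D R (MvPolynomial (Fin N) R) (g j))) =
    Module.finrank κ (Submodule.span κ (Set.range fun j => fun l : Fin N =>
      algebraMap (MvPolynomial (Fin N) R) κ (pderiv l (g j)))) := by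
  let b := (KaehlerDifferential.mvPolynomialBasis R (Fin N)).baseChange κ
  have h : (fun j => fun l : Fin N => algebraMap (MvPolynomial (Fin N) R) κ (pderiv l (g j))) =
      (b.equivFun : _ → _) ∘ (fun j => (1 : κ) ⊗ₜ[MvPolynomial (Fin N) R]
        KaehlerDifferential.D R (MvPolynomial (Fin N) R) (g j)) := by
    funext j l
    simp only [Function.comp_apply, Module.Basis.equivFun_apply, b]
    rw [Module.Basis.baseChange_repr_tmul, KaehlerDifferential.mvPolynomialBasis_repr_apply,
      ← Algebra.algebraMap_eq_smul_one]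
  rw [h, Set.range_comp, ← LinearEquiv.coe_coe, ← Submodule.map_span]
  exact (LinearEquiv.finrank_map_eq b.equivFun _).symm

variable {k : Type u} [Field k] {N e : ℕ} {a : Fin e → ℕ} (G : ∀ j : Fin e, RForm N k (a j))

theorem le_rank (hsm : Smooth (yStr G)) (D : ℕ) (hdim : topologicalKrullDim (Y G) ≤ D)
    (v : Fin (N + 1) → k) (i : Fin (N + 1)) (hi : v i = 1) (hG : ∀ j, aeval v (G j).1 = 0) :
    N ≤ D + Module.finrank k (Submodule.span k
      (Set.range fun j : Fin e => fun l : Fin N => aeval v (pderiv (i.succAbove l) (G j).1))) := by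
  let α : MvPolynomial (Fin N) k →+* k := (aeval (fun l => v (i.succAbove l)) : MvPolynomial (Fin N) k →ₐ[k] k).toRingHom
  have hα : ∀ p, aeval v p = α (ProjChart.dehom N k i p) := by
    intro p
    change (aeval v : MvPolynomial (Fin (N + 1)) k →ₐ[k] k).toRingHom p =
      (α.comp (ProjChart.dehom N k i)) p
    congr 1
    apply MvPolynomial.ringHom_ext
    · intro c
      simp [α]
    · intro l
      obtain rfl | ⟨m, rfl⟩ := Fin.eq_self_or_eq_succAbove i l
      · simp [hi]
      · simp [α]
  have hker : RingHom.ker (toY G i) ≤ RingHom.ker α := by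
    rw [ker_toY, Ideal.span_le]
    rintro _ ⟨j, rfl⟩
    change α _ = 0
    rw [← hα]
    exact hG j
  let ψ : Γ(Y G, ychart G i) →+* k := RingHom.liftOfSurjective (toY G i) (toY_surjective G i) ⟨α, hker⟩
  have hψ : ∀ p, ψ (toY G i p) = α p := fun p => RingHom.liftOfRightInverse_comp_apply (toY G i) _ _ ⟨α, hker⟩ p
  let _ : Algebra k Γ(Y G, ychart G i) := (strMap G i).toAlgebra
  let _ : Algebra (MvPolynomial (Fin N) k) Γ(Y G, ychart G i) := (toY G i).toAlgebra
  have _ : IsScalarTower k (MvPolynomial (Fin N) k) Γ(Y G, ychart G i) :=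
    IsScalarTower.of_algebraMap_eq fun _ => rfl
  -- smoothness of the chart
  have hloc : RingHom.Locally RingHom.IsStandardSmooth (algebraMap k Γ(Y G, ychart G i)) := by
    have h1 : RingHom.Smooth ((yStr G).appLE ⊤ (ychart G i) le_top).hom :=
      HasRingHomProperty.appLE (P := @Smooth) (yStr G) hsm
        ⟨⊤, isAffineOpen_top _⟩ ⟨ychart G i, isAffineOpen_ychart G i⟩ le_top
    have h2 : strMap G i = ((yStr G).appLE ⊤ (ychart G i) le_top).hom.comp
        (Scheme.ΓSpecIso (CommRingCat.of k)).commRingCatIsoToRingEquiv.symm.toRingHom := by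
      ext c
      exact (yStr_appLE G i c).symm
    rw [← RingHom.smooth_iff_locally_isStandardSmooth]
    change RingHom.Smooth (strMap G i)
    rw [h2]
    exact RingHom.Smooth.respectsIso.2 _ _ h1
  obtain ⟨s, hs, hst⟩ := hloc
  obtain ⟨f, hfs, hf⟩ : ∃ f ∈ s, ψ f ≠ 0 := by
    by_contra hcon
    push Not at hcon
    have h1 : Ideal.span s ≤ RingHom.ker ψ := Ideal.span_le.2 hcon
    rw [hs] at h1
    have h2 : (1 : Γ(Y G, ychart G i)) ∈ RingHom.ker ψ := h1 trivial
    rw [RingHom.mem_ker, map_one] at h2
    exact one_ne_zero h2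
  have hstd := hst f hfs
  rw [← IsScalarTower.algebraMap_eq, RingHom.isStandardSmooth_algebraMap] at hstd
  obtain ⟨ι', σ', _, _, ⟨P⟩⟩ := hstd
  have hP : Algebra.IsStandardSmoothOfRelativeDimension P.dimension k (Localization.Away f) :=
    ⟨⟨ι', σ', ‹_›, ‹_›, P, rfl⟩⟩
  -- the dimension
  have hn : P.dimension ≤ D := by
    let n := P.dimension
    let T := Localization.Away f
    let g : Spec (CommRingCat.of T) ⟶ Spec (CommRingCat.of k) := Spec.map (CommRingCat.ofHom (algebraMap k T))
    have hg : SmoothOfRelativeDimension n g := by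
      rw [HasRingHomProperty.Spec_iff (P := @SmoothOfRelativeDimension n)]
      refine RingHom.locally_of ?_ _ ?_
      · exact RingHom.isStandardSmoothOfRelativeDimension_respectsIso
      · exact (RingHom.isStandardSmoothOfRelativeDimension_algebraMap n).2 hP
    let θ : T →+* k := IsLocalization.Away.lift (S := T) f (g := ψ) (IsUnit.mk0 _ hf)
    have hT : Nontrivial T := θ.domain_nontrivial
    have hne : Nonempty (Spec (CommRingCat.of T)) := inferInstanceAs (Nonempty (PrimeSpectrum T))
    have h1 := K658.RelDimComp.topologicalKrullDim_eq n g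
    let j : Spec (CommRingCat.of T) ⟶ Y G :=
      Spec.map (CommRingCat.ofHom (algebraMap Γ(Y G, ychart G i) T)) ≫ (isAffineOpen_ychart G i).fromSpec
    have hj1 : IsOpenImmersion (Spec.map (CommRingCat.ofHom (algebraMap Γ(Y G, ychart G i) T))) :=
      IsOpenImmersion.of_isLocalization f
    have hj : IsOpenImmersion j := inferInstance
    have h2 : topologicalKrullDim (Spec (CommRingCat.of T)) ≤ topologicalKrullDim (Y G) :=
      j.isOpenEmbedding.isInducing.topologicalKrullDim_le
    rw [h1] at h2
    exact_mod_cast h2.trans hdim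
  -- the rank
  let _ : Algebra Γ(Y G, ychart G i) k := ψ.toAlgebra
  let _ : Algebra (MvPolynomial (Fin N) k) k := α.toAlgebra
  have _ : IsScalarTower (MvPolynomial (Fin N) k) Γ(Y G, ychart G i) k :=
    IsScalarTower.of_algebraMap_eq fun p => (hψ p).symm
  have h1 : Module.finrank k (k ⊗[Γ(Y G, ychart G i)] Ω[Γ(Y G, ychart G i)⁄k]) = P.dimension :=
    Groth.Agent.Sga4B.RelDimUnique.finrank_eq k P.dimension f hf hP
  have hbasis : Module.finrank k (k ⊗[MvPolynomial (Fin N) k] Ω[MvPolynomial (Fin N) k⁄k]) = N := by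
    let b := (KaehlerDifferential.mvPolynomialBasis k (Fin N)).baseChange k
    rw [Module.finrank_eq_card_basis b, Fintype.card_fin]
  have hfin : Module.Finite k (k ⊗[MvPolynomial (Fin N) k] Ω[MvPolynomial (Fin N) k⁄k]) := 
    Module.Finite.of_basis ((KaehlerDifferential.mvPolynomialBasis k (Fin N)).baseChange k)
  have h2 := Groth.Agent.Lefpen.H727.JacCrit.finrank_add_finrank_span (R := k) (B := MvPolynomial (Fin N) k)
    (C := Γ(Y G, ychart G i)) (toY_surjective G i) (fun j => ProjChart.dehom N k i (G j).1) (ker_toY G i) k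
  rw [h1, hbasis, finrank_span_D] at h2
  have h3 : (fun j : Fin e => fun l : Fin N => aeval v (pderiv (i.succAbove l) (G j).1)) =
      (fun j => fun l : Fin N => algebraMap (MvPolynomial (Fin N) k) k (pderiv l (ProjChart.dehom N k i (G j).1))) := by
    funext j l
    rw [pderiv_dehom, hα]
    rfl
  rw [h3]
  omega

end K544.RankJac
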