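import Groth.Agent.Fano.K276.SmLocus
import Groth.Agent.Fano.K544.RankJac

/-!
# The locus where the Jacobian matrix has at least the rank at a smooth member

`exists_locus`: `G_1..G_e` forms over `A` in `N + 1 = D + c + 1` variables, `φ : A → k` onto an algebraically closed field
such that `V(φ G)` is smooth of dimension at most `D`: there is `g ∈ A`, `φ g = 1`, such that over every `ψ : A → R` with
`ψ g` a unit the gradients of the `G_j` have rank at least `c` at all field valued points of `V(ψ G)`.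
-/

set_option autoImplicit false
universe u

open CategoryTheory AlgebraicGeometry Limits TopologicalSpace Opposite MvPolynomial

namespace K544.RankLocus

open Groth.Agent.Lefpen.H872.RelCI Groth.Agent.Lefpen.H872.RelBase Groth.Agent.Sga5
open Groth.Agent.Fano.K276.SmLocus

theorem eval_smul_of_isHomogeneous {K : Type u} [CommRing K] {N n : ℕ} {p : MvPolynomial (Fin N) K}
    (hp : p.IsHomogeneous n) (c : K) (x : Fin N → K) : eval (c • x) p = c ^ n * eval x p := by
  rw [eval_eq', eval_eq', Finset.mul_sum]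
  refine Finset.sum_congr rfl fun s hs => ?_
  have hd : ∑ j, s j = n := by
    have := hp (mem_support_iff.1 hs)
    rw [← this, Finsupp.weight_apply, Finsupp.sum_fintype _ _ (by simp)]
    simp
  simp only [Pi.smul_apply, smul_eq_mul, mul_pow]
  rw [Finset.prod_mul_distrib, Finset.prod_pow_eq_pow_sum, hd]
  ring

section

variable {A : Type u} [CommRing A] {N e : ℕ} {a : Fin e → ℕ} (G : ∀ j : Fin e, RForm N A (a j)) (c : ℕ)

/-- The maximal minors of the subfamilies with `c` members. -/
noncomputable def minor (x : (Fin c → Fin e) × (Fin c → Fin (N + 1))) : MvPolynomial (Fin (N + 1)) A :=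
  ((jmat (fun m => G (x.1 m))).submatrix id x.2).det

/-- The equations and the minors of size `c` of the Jacobian matrix. -/
noncomputable def rIdeal : Ideal (MvPolynomial (Fin (N + 1)) A) :=
  Ideal.span (Set.range (fun j => (G j).1) ∪ Set.range (minor G c))

theorem isHomogeneous_minor (x : (Fin c → Fin e) × (Fin c → Fin (N + 1))) :
    (minor G c x).IsHomogeneous (∑ m, (a (x.1 m) - 1)) :=
  isHomogeneous_det (fun m => G (x.1 m)) x.2

theorem isHomogeneous_rIdeal : (rIdeal G c).IsHomogeneous (homogeneousSubmodule (Fin (N + 1)) A) := by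
  refine Ideal.homogeneous_span _ _ ?_
  rintro _ (⟨j, rfl⟩ | ⟨σ, rfl⟩)
  · exact ⟨a j, (G j).2⟩
  · exact ⟨_, isHomogeneous_minor G c σ⟩

theorem map_minor {B : Type u} [CommRing B] (φ : A →+* B) (x : (Fin c → Fin e) × (Fin c → Fin (N + 1))) :
    MvPolynomial.map φ (minor G c x) = minor (fun j => mapForm φ (G j)) c x :=
  map_det (fun m => G (x.1 m)) φ x.2

theorem rIdeal_map {B : Type u} [CommRing B] (φ : A →+* B) :
    rIdeal (fun j => mapForm φ (G j)) c = (rIdeal G c).map (MvPolynomial.map φ) := by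
  rw [rIdeal, rIdeal, Ideal.map_span]
  congr 1
  rw [Set.image_union, ← Set.range_comp, ← Set.range_comp]
  congr 1
  congr 1
  funext σ
  exact (map_minor G c φ σ).symm

end

section Member

variable {k : Type u} [Field k] {N e : ℕ} {a : Fin e → ℕ} (G : ∀ j : Fin e, RForm N k (a j))

theorem exists_minor_ne {D c : ℕ} (hN : N = D + c) (hsm : Smooth (yStr G)) (hdim : topologicalKrullDim (Y G) ≤ D)
    (v : Fin (N + 1) → k) (i : Fin (N + 1)) (hi : v i = 1) (hG : ∀ j, eval v (G j).1 = 0) :
    ∃ x, eval v (minor G c x) ≠ 0 := by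
  have h := RankJac.le_rank G hsm D hdim v i hi (fun j => by rw [aeval_eq_eval]; exact hG j)
  let w : Fin e → (Fin N → k) := fun j l => aeval v (pderiv (i.succAbove l) (G j).1)
  have hc : c ≤ Module.finrank k (Submodule.span k (Set.range w)) := by
    have h' : N ≤ D + Module.finrank k (Submodule.span k (Set.range w)) := h
    omega
  obtain ⟨f, hf, -, hli⟩ := Submodule.exists_fun_fin_finrank_span_eq k (Set.range w)
  choose e0 he0 using hf
  let e' : Fin c → Fin e := fun m => e0 (Fin.castLE hc m)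
  have hli' : LinearIndependent k (fun m => w (e' m)) := by
    have h1 : (fun m => w (e' m)) = f ∘ Fin.castLE hc := funext fun m => he0 _
    rw [h1]
    exact hli.comp _ (Fin.castLE_injective hc)
  let M : Matrix (Fin c) (Fin (N + 1)) k := Matrix.of fun m l => eval v (pderiv l (G (e' m)).1)
  have hM : LinearIndependent k M.row := by
    rw [Fintype.linearIndependent_iff] at hli' ⊢
    intro b hb
    refine hli' b ?_
    funext l
    have := congrFun hb (i.succAbove l)
    simpa [M, w, aeval_eq_eval, Matrix.row] using this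
  obtain ⟨σ, hσ⟩ := Groth.Agent.Lefpen.H718.Minor.exists_minor M hM
  refine ⟨(e', σ), ?_⟩
  rw [minor, RingHom.map_det]
  exact hσ

variable [IsAlgClosed k]

theorem X_mem_radical {D c : ℕ} (hN : N = D + c) (hsm : Smooth (yStr G)) (hdim : topologicalKrullDim (Y G) ≤ D)
    (l : Fin (N + 1)) : (X l : MvPolynomial (Fin (N + 1)) k) ∈ (rIdeal G c).radical := by
  rw [← MvPolynomial.vanishingIdeal_zeroLocus_eq_radical (K := k)]
  intro x hx
  rw [aeval_X]
  by_contra hl
  have hx1 : ∀ p ∈ rIdeal G c, eval x p = 0 := fun p hp => by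
    have := hx p hp
    rwa [aeval_eq_eval] at this
  let y : Fin (N + 1) → k := (x l)⁻¹ • x
  have hy : y l = 1 := by simp [y, inv_mul_cancel₀ hl]
  obtain ⟨σ, hσ⟩ := exists_minor_ne G hN hsm hdim y l hy (fun j => by
    rw [eval_smul_of_isHomogeneous (G j).2, hx1 _ (Ideal.subset_span (Or.inl ⟨j, rfl⟩)), mul_zero])
  apply hσ
  rw [eval_smul_of_isHomogeneous (isHomogeneous_minor G c σ), hx1 _ (Ideal.subset_span (Or.inr ⟨σ, rfl⟩)), mul_zero]

theorem exists_degree {D c : ℕ} (hN : N = D + c) (hsm : Smooth (yStr G)) (hdim : topologicalKrullDim (Y G) ≤ D) :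
    ∃ m : ℕ, ∀ s : Fin (N + 1) →₀ ℕ, s.degree = m → monomial s (1 : k) ∈ rIdeal G c := by
  choose e he using fun l => X_mem_radical G hN hsm hdim l
  obtain ⟨m, hm⟩ : ∃ m, ∀ l, e l ≤ m := ⟨Finset.univ.sup e, fun l => Finset.le_sup (Finset.mem_univ l)⟩
  have hX : ∀ l, (X l : MvPolynomial (Fin (N + 1)) k) ^ m ∈ rIdeal G c := fun l => by
    rw [← Nat.sub_add_cancel (hm l), pow_add]
    exact Ideal.mul_mem_left _ _ (he l)
  refine ⟨(N + 1) * m, fun s hs => ?_⟩
  obtain ⟨l, hl⟩ : ∃ l, m ≤ s l := by
    by_contra hcon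
    push Not at hcon
    have h1 : ∑ l, s l < ∑ _l : Fin (N + 1), m :=
      Finset.sum_lt_sum_of_nonempty Finset.univ_nonempty fun l _ => hcon l
    rw [Finset.sum_const, Finset.card_univ, Fintype.card_fin, smul_eq_mul, ← hs, Finsupp.degree_eq_sum] at h1
    exact lt_irrefl _ h1
  have h2 : monomial s (1 : k) = monomial (s - Finsupp.single l m) 1 * X l ^ m := by
    rw [X_pow_eq_monomial, monomial_mul, one_mul, tsub_add_cancel_of_le]
    rw [Finsupp.single_le_iff]
    exact hl
  rw [h2]
  exact Ideal.mul_mem_left _ _ (hX l)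

end Member

/-- The locus where the Jacobian matrix has rank at least `c` contains a neighbourhood of a smooth member. -/
theorem exists_locus {A : Type u} [CommRing A] {k : Type u} [Field k] [IsAlgClosed k] (φ : A →+* k)
    (hφ : Function.Surjective φ) {N e : ℕ} {a : Fin e → ℕ} (G : ∀ j : Fin e, RForm N A (a j)) {D c : ℕ}
    (hN : N = D + c) (hsm : Smooth (yStr (fun j => mapForm φ (G j))))
    (hdim : topologicalKrullDim (Y (fun j => mapForm φ (G j))) ≤ D) :
    ∃ g : A, φ g = 1 ∧ ∀ (R : Type u) [CommRing R] (ψ : A →+* R), IsUnit (ψ g) →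
      ∀ (K : Type u) [Field K] [Algebra R K] (v : Fin (N + 1) → K) (i : Fin (N + 1)), v i = 1 →
        (∀ j, aeval v (mapForm ψ (G j)).1 = 0) → ∃ e' : Fin c → Fin e,
          LinearIndependent K (fun m : Fin c => fun l : Fin N =>
            aeval v (pderiv (i.succAbove l) (mapForm ψ (G (e' m))).1)) := by
  obtain ⟨m, hm⟩ := exists_degree _ hN hsm hdim
  rw [rIdeal_map] at hm
  obtain ⟨g, hg, hgJ⟩ := exists_elim φ (isHomogeneous_rIdeal G c) m hm hφ
  refine ⟨g, hg, fun R _ ψ hu K _ _ v i hi hv => ?_⟩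
  let ev : MvPolynomial (Fin (N + 1)) A →+* K := (aeval v : MvPolynomial (Fin (N + 1)) R →ₐ[R] K).toRingHom.comp
    (MvPolynomial.map ψ)
  have hev : ∀ p, ev p = aeval v (MvPolynomial.map ψ p) := fun _ => rfl
  have hevG : ∀ j, ev (G j).1 = 0 := fun j => hv j
  have hevi : ev (X i) = 1 := by rw [hev, map_X, aeval_X, hi]
  have hσ : ∃ σ, ev (minor G c σ) ≠ 0 := by
    by_contra hcon
    push Not at hcon
    have h1 : rIdeal G c ≤ RingHom.ker ev := by
      rw [rIdeal, Ideal.span_le]
      rintro _ (⟨j, rfl⟩ | ⟨σ, rfl⟩)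
      · exact hevG j
      · exact hcon σ
    have h2 := h1 (hgJ (X i ^ m) (by
      have := (isHomogeneous_X A i).pow m
      rwa [one_mul] at this))
    rw [RingHom.mem_ker, map_mul, map_pow, hevi, one_pow, mul_one, hev, map_C, aeval_C] at h2
    exact (hu.map (algebraMap R K)).ne_zero h2
  obtain ⟨⟨e', σ⟩, hσ⟩ := hσ
  have h3 := linearIndependent_chart (fun m => G (e' m)) ev i hevi (fun m => hevG _) σ hσ
  refine ⟨e', ?_⟩
  convert h3 using 1
  funext j l
  rw [hev, mapForm_val, MvPolynomial.pderiv_map]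

end K544.RankLocus
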