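import Groth.Agent.Lefpen.H872.RelSmooth

/-!
# The Jacobian criterion for algebras which are locally complete intersections

* `exists_away`: `C = R[x_1..x_N]/I`, `q` a prime of `C`, `s ∉ q` with `s I ⊆ (h_1..h_c) ⊆ I`, the gradients of the `h_i`
  linearly independent at `q`: `C` is standard smooth of relative dimension `N - c` near `q`.
* `smooth_of_local`: the projective version for `V(G_1..G_e) ⊆ P^N_R`.
-/

set_option autoImplicit false
universe u

open CategoryTheory AlgebraicGeometry Limits TopologicalSpace Opposite MvPolynomial TensorProduct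

namespace K544.LocCI

section Alg

theorem isLocalization_of_surjective {A B T : Type u} [CommRing A] [CommRing B] [CommRing T] [Algebra A B]
    [Algebra B T] [Algebra A T] [IsScalarTower A B T] (hs : Function.Surjective (algebraMap A B)) (t : A)
    (hk : ∀ x, algebraMap A B x = 0 → t * x = 0) [IsLocalization.Away (algebraMap A B t) T] :
    IsLocalization.Away t T where
  map_units := by
    rintro ⟨_, m, rfl⟩
    rw [IsScalarTower.algebraMap_apply A B T, map_pow, map_pow]
    exact (IsLocalization.Away.algebraMap_isUnit _).pow m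
  surj := by
    intro z
    obtain ⟨m, b, hb⟩ := IsLocalization.Away.surj (algebraMap A B t) z
    obtain ⟨a, rfl⟩ := hs b
    refine ⟨(a, ⟨t ^ m, m, rfl⟩), ?_⟩
    rw [IsScalarTower.algebraMap_apply A B T, IsScalarTower.algebraMap_apply A B T, map_pow, map_pow]
    exact hb
  exists_of_eq := by
    intro x y h
    rw [IsScalarTower.algebraMap_apply A B T, IsScalarTower.algebraMap_apply A B T y] at h
    obtain ⟨⟨_, m, rfl⟩, hm⟩ := IsLocalization.exists_of_eq (M := Submonoid.powers (algebraMap A B t)) h
    refine ⟨⟨t ^ (m + 1), m + 1, rfl⟩, ?_⟩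
    have h1 : algebraMap A B (t ^ m * (x - y)) = 0 := by
      rw [map_mul, map_pow, map_sub, mul_sub, sub_eq_zero]
      exact hm
    have h2 := hk _ h1
    change t ^ (m + 1) * x = t ^ (m + 1) * y
    rw [← sub_eq_zero, ← h2]
    ring

variable {R C : Type u} [CommRing R] [CommRing C] [Algebra R C] {N n c : ℕ}

theorem exists_away (π : MvPolynomial (Fin N) R →ₐ[R] C) (hπ : Function.Surjective π) (hN : N = n + c)
    (q : Ideal C) [q.IsPrime] (s : MvPolynomial (Fin N) R) (h : Fin c → MvPolynomial (Fin N) R)
    (hs : π s ∉ q) (h0 : ∀ i, π (h i) = 0) (hk : ∀ x, π x = 0 → s * x ∈ Ideal.span (Set.range h))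
    (hli : LinearIndependent q.ResidueField
      (fun (i : Fin c) (l : Fin N) => algebraMap C q.ResidueField (π (pderiv l (h i))))) :
    ∃ f : C, f ∉ q ∧ Algebra.IsStandardSmoothOfRelativeDimension n R (Localization.Away f) := by
  let B := MvPolynomial (Fin N) R
  let I : Ideal B := Ideal.span (Set.range h)
  let A := B ⧸ I
  have hI : ∀ a ∈ I, π a = 0 := by
    intro a ha
    have : I ≤ RingHom.ker π := by
      rw [Ideal.span_le]
      rintro _ ⟨i, rfl⟩
      exact h0 i
    exact this ha
  let θ : A →ₐ[R] C := Ideal.Quotient.liftₐ I π hI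
  have hθ : ∀ b : B, θ (Ideal.Quotient.mk I b) = π b := fun b => rfl
  let _ : Algebra A C := θ.toRingHom.toAlgebra
  have _ : IsScalarTower R A C := IsScalarTower.of_algebraMap_eq fun r => (θ.commutes r).symm
  have hAC : Function.Surjective (algebraMap A C) := by
    intro x
    obtain ⟨b, rfl⟩ := hπ x
    exact ⟨Ideal.Quotient.mk I b, hθ b⟩
  let q' : Ideal A := q.comap (algebraMap A C)
  have hq' : q'.IsPrime := Ideal.comap_isPrime _ _
  let φ : q'.ResidueField →+* q.ResidueField := Ideal.ResidueField.map q' q (algebraMap A C) rfl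
  have hφ : ∀ a : A, φ (algebraMap A q'.ResidueField a) = algebraMap C q.ResidueField (algebraMap A C a) := fun a => by
    simp [φ]
  have hli' : LinearIndependent q'.ResidueField
      (fun (i : Fin c) (l : Fin N) => algebraMap B q'.ResidueField (pderiv l (h i))) := by
    rw [Fintype.linearIndependent_iff] at hli ⊢
    intro a ha i
    apply φ.injective
    rw [map_zero]
    refine hli (fun i => φ (a i)) ?_ i
    funext l
    have h1 := congrArg φ (congrFun ha l)
    simp only [Finset.sum_apply, Pi.smul_apply, smul_eq_mul, Pi.zero_apply, map_sum, map_mul, map_zero] at h1 ⊢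
    rw [← h1]
    refine Finset.sum_congr rfl fun i _ => ?_
    congr 1
    rw [IsScalarTower.algebraMap_apply B A q'.ResidueField, hφ]
    exact congrArg _ (hθ _).symm
  have hB : RingHom.Locally (RingHom.IsStandardSmoothOfRelativeDimension N) (algebraMap R B) := by
    refine RingHom.locally_of ?_ _ ?_
    · exact RingHom.isStandardSmoothOfRelativeDimension_respectsIso
    · rw [RingHom.isStandardSmoothOfRelativeDimension_algebraMap]
      exact Groth.Agent.Sga5.ProjSmooth.stdSmooth_mvPolynomial R N
  have hBA : Function.Surjective (algebraMap B A) := Ideal.Quotient.mk_surjective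
  have hJ : RingHom.ker (algebraMap B A) = Ideal.span (Set.range h) := Ideal.mk_ker
  have hfp : Algebra.FinitePresentation R A := by
    have h1 : Algebra.FinitePresentation B A := by
      refine Algebra.FinitePresentation.of_surjective (f := Algebra.ofId B A) hBA ?_
      refine ⟨(Set.finite_range h).toFinset, ?_⟩
      rw [Set.Finite.coe_toFinset]
      exact hJ.symm
    exact Algebra.FinitePresentation.trans R B A
  obtain ⟨⟨f, hf, hfs⟩, -⟩ := (Groth.Agent.Lefpen.H727.JacCrit.exists_away_iff hBA h hJ N q' hB).2
    (Groth.Agent.Lefpen.H872.RelSmooth.linearIndependent_D h hli')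
  rw [Fintype.card_fin, show N - c = n by omega] at hfs
  let sA : A := Ideal.Quotient.mk I s
  let t : A := sA * f
  let T := Localization.Away (algebraMap A (Localization.Away f) sA)
  have hT : IsLocalization.Away t T := IsLocalization.Away.mul (Localization.Away f) T f sA
  have hTs : Algebra.IsStandardSmoothOfRelativeDimension n R T := by
    have h1 : Algebra.IsStandardSmoothOfRelativeDimension 0 (Localization.Away f) T :=
      Algebra.IsStandardSmoothOfRelativeDimension.localization_away (algebraMap A (Localization.Away f) sA)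
    have h2 := Algebra.IsStandardSmoothOfRelativeDimension.trans (n := n) (m := 0) R (Localization.Away f) T
    rwa [zero_add] at h2
  let T' := Localization.Away (algebraMap A C t)
  have hT' : IsLocalization.Away t T' := by
    refine isLocalization_of_surjective (B := C) hAC t fun x hx => ?_
    obtain ⟨b, rfl⟩ := Ideal.Quotient.mk_surjective x
    have h1 : Ideal.Quotient.mk I (s * b) = 0 := Ideal.Quotient.eq_zero_iff_mem.2 (hk b hx)
    have h2 : sA * Ideal.Quotient.mk I b = 0 := by rw [← h1, map_mul]
    change sA * f * _ = 0
    rw [mul_right_comm, h2, zero_mul]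
  refine ⟨algebraMap A C t, ?_, ?_⟩
  · change t ∉ q'
    intro ht
    rcases hq'.mem_or_mem ht with h1 | h1
    · exact hs h1
    · exact hf h1
  · exact Algebra.IsStandardSmoothOfRelativeDimension.of_algEquiv n
      ((IsLocalization.algEquiv (Submonoid.powers t) T T').restrictScalars R)

end Alg

section Proj

open Groth.Agent.Lefpen.H872.RelCI Groth.Agent.Lefpen.H872.RelBase Groth.Agent.Lefpen.H872.RelSmooth
open Groth.Agent.Sga5

variable {N e c : ℕ} {R : Type u} [CommRing R] {a : Fin e → ℕ} (G : ∀ j : Fin e, RForm N R (a j))

/-- Smoothness of relative dimension `N - c` for a projective scheme which is locally a complete intersection of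
codimension `c` with independent gradients. -/
theorem smooth_of_local {n : ℕ} (hN : N = n + c)
    (h : ∀ (K : Type u) [Field K] [Algebra R K] (v : Fin (N + 1) → K) (i : Fin (N + 1)), v i = 1 →
      (∀ j, aeval v (G j).1 = 0) →
      ∃ (S : MvPolynomial (Fin (N + 1)) R) (e' : Fin c → Fin e), aeval v S ≠ 0 ∧
        (∀ j, S * (G j).1 ∈ Ideal.span (Set.range fun m => (G (e' m)).1)) ∧
        LinearIndependent K
          (fun m : Fin c => fun l : Fin N => aeval v (pderiv (i.succAbove l) (G (e' m)).1))) :
    SmoothOfRelativeDimension n (yStr G) := by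
  let V : Fin (N + 1) → (Y G).affineOpens := fun i => ⟨ychart G i, isAffineOpen_ychart G i⟩
  refine HasRingHomProperty.of_iSup_eq_top (P := @SmoothOfRelativeDimension n) V ?_ ?_
  · change ⨆ j, yι G ⁻¹ᵁ rchart N R j = ⊤
    rw [← Scheme.Hom.preimage_iSup, iSup_rchart]
    rfl
  · intro i
    have hL := RingHom.locally_respectsIso
      (RingHom.isStandardSmoothOfRelativeDimension_respectsIso (n := n))
    have h2 : strMap G i = ((yStr G).appLE ⊤ (ychart G i) le_top).hom.comp
        (Scheme.ΓSpecIso (CommRingCat.of R)).inv.hom := by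
      ext c
      exact (yStr_appLE G i c).symm
    have h4 := hL.cancel_left_isIso (Scheme.ΓSpecIso (CommRingCat.of R)).inv
      ((yStr G).appLE ⊤ (ychart G i) le_top)
    rw [← h2] at h4
    refine h4.mp ?_
    let _ : Algebra R Γ(Y G, ychart G i) := (strMap G i).toAlgebra
    let π : MvPolynomial (Fin N) R →ₐ[R] Γ(Y G, ychart G i) := { toY G i with commutes' := fun _ => rfl }
    have hπ : ∀ p, π p = toY G i p := fun _ => rfl
    change RingHom.Locally _ (algebraMap R Γ(Y G, ychart G i))
    refine Groth.Agent.Lefpen.H727.DerCrit.locally_of_forall fun q _ => ?_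
    let α : MvPolynomial (Fin N) R →+* q.ResidueField := (algebraMap _ q.ResidueField).comp (toY G i)
    have hα : ∀ p, α p = algebraMap _ q.ResidueField (toY G i p) := fun _ => rfl
    let v : Fin (N + 1) → q.ResidueField := i.insertNth (α := fun _ => q.ResidueField) 1 (fun l => α (X l))
    have hvi : v i = 1 := by simp [v]
    have hvl : ∀ l, v (i.succAbove l) = α (X l) := by
      intro l; simp [v]
    have hv : ∀ p : MvPolynomial (Fin (N + 1)) R, aeval v p = α (ProjChart.dehom N R i p) := by
      intro p
      change (aeval v : MvPolynomial (Fin (N + 1)) R →ₐ[R] q.ResidueField).toRingHom p =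
        (α.comp (ProjChart.dehom N R i)) p
      congr 1
      apply MvPolynomial.ringHom_ext
      · intro c
        change aeval v (C c) = α (ProjChart.dehom N R i (C c))
        rw [ProjChart.dehom_C, aeval_C]
        exact IsScalarTower.algebraMap_apply R Γ(Y G, ychart G i) q.ResidueField c
      · intro l
        obtain rfl | ⟨m, rfl⟩ := Fin.eq_self_or_eq_succAbove i l
        · simp [hvi]
        · simp [hvl]
    have hG0 : ∀ j, toY G i (ProjChart.dehom N R i (G j).1) = 0 := by
      intro j
      rw [← RingHom.mem_ker, ker_toY]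
      exact Ideal.subset_span ⟨j, rfl⟩
    obtain ⟨S, e', hS, hmem, hli⟩ := h q.ResidueField v i hvi (fun j => by
      rw [hv, hα, hG0, map_zero])
    have hmem' : ∀ j, ProjChart.dehom N R i S * ProjChart.dehom N R i (G j).1 ∈
        Ideal.span (Set.range fun m => ProjChart.dehom N R i (G (e' m)).1) := by
      intro j
      have h6 := Ideal.mem_map_of_mem (ProjChart.dehom N R i) (hmem j)
      rw [Ideal.map_span, ← Set.range_comp, map_mul] at h6
      exact h6
    refine exists_away π (toY_surjective G i) hN q (ProjChart.dehom N R i S)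
      (fun m => ProjChart.dehom N R i (G (e' m)).1) ?_ (fun m => hG0 _) ?_ ?_
    · intro hq
      apply hS
      rw [hv, hα]
      exact Ideal.algebraMap_residueField_eq_zero.2 hq
    · intro x hx
      have hle : RingHom.ker (toY G i) ≤ Submodule.comap
          (LinearMap.mulLeft (MvPolynomial (Fin N) R) (ProjChart.dehom N R i S))
          (Ideal.span (Set.range fun m => ProjChart.dehom N R i (G (e' m)).1)) := by
        rw [ker_toY]
        refine Ideal.span_le.2 ?_
        rintro _ ⟨j, rfl⟩
        exact hmem' j
      exact hle hx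
    · convert hli using 1
      funext m l
      rw [hv, hπ, pderiv_dehom]
      rfl

end Proj

end K544.LocCI
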