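import Groth.Agent.Fano.K544.LocCI
import Groth.Agent.Fano.K276.QuartUniv
import Groth.Agent.Fano.K715.QuintDef

/-!
# The determinantal family `V_+(v₀, v₁ a + v₂ b, v₁ M₁ + v₂ M₂, a M₂ - b M₁)` over a ring

* `gforms`: the four forms; `mapForm_gforms`; `cG_eq`.
* `smooth_of_rank`: the family is smooth of relative dimension one if the Jacobian matrix has rank at least three at all
  field valued points.
-/

set_option autoImplicit false
universe u

open CategoryTheory AlgebraicGeometry Limits TopologicalSpace Opposite MvPolynomial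

namespace K544.QuintDet

open Groth.Agent.Lefpen.H872.RelCI Groth.Agent.Lefpen.H872.RelBase Groth.Agent.Sga5
open Groth.Agent.Fano.K276.QuartUniv
open Groth.Agent.Fano.K714 Groth.Agent.Fano.K714.Rat Groth.Agent.Fano.K714.Quart Groth.Agent.Fano.K715.Quint

section Forms

variable {A : Type u} [CommRing A] {B : Type u} [CommRing B] (φ : A →+* B)

/-- The product of two forms. -/
noncomputable def rmul {a b c : ℕ} (F : RForm 4 A a) (G : RForm 4 A b) (h : a + b = c) : RForm 4 A c :=
  ⟨F.1 * G.1, (MvPolynomial.mem_homogeneousSubmodule _ _).mpr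
    (h ▸ ((MvPolynomial.mem_homogeneousSubmodule _ _).mp F.2).mul ((MvPolynomial.mem_homogeneousSubmodule _ _).mp G.2))⟩

theorem mapForm_rmul {a b c : ℕ} (F : RForm 4 A a) (G : RForm 4 A b) (h : a + b = c) :
    mapForm φ (rmul F G h) = rmul (mapForm φ F) (mapForm φ G) h :=
  Subtype.ext (map_mul (MvPolynomial.map φ) F.1 G.1)

theorem mapForm_add {a : ℕ} (F G : RForm 4 A a) : mapForm φ (F + G) = mapForm φ F + mapForm φ G :=
  Subtype.ext (map_add (MvPolynomial.map φ) F.1 G.1)

theorem mapForm_sub {a : ℕ} (F G : RForm 4 A a) : mapForm φ (F - G) = mapForm φ F - mapForm φ G :=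
  Subtype.ext (map_sub (MvPolynomial.map φ) F.1 G.1)

/-- The degrees. -/
def deg4 : Fin 4 → ℕ
  | 0 => 1
  | 1 => 2
  | 2 => 3
  | 3 => 3

/-- The four forms. -/
noncomputable def gforms (v : Fin 3 → RForm 4 A 1) (M : Fin 3 → RForm 4 A 2) (ab : Fin 2 → RForm 4 A 1) :
    ∀ j : Fin 4, RForm 4 A (deg4 j)
  | 0 => v 0
  | 1 => rmul (v 1) (ab 0) rfl + rmul (v 2) (ab 1) rfl
  | 2 => rmul (v 1) (M 1) rfl + rmul (v 2) (M 2) rfl
  | 3 => rmul (ab 0) (M 2) rfl - rmul (ab 1) (M 1) rfl

theorem mapForm_gforms (v : Fin 3 → RForm 4 A 1) (M : Fin 3 → RForm 4 A 2) (ab : Fin 2 → RForm 4 A 1) (j : Fin 4) :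
    mapForm φ (gforms v M ab j) =
      gforms (fun j => mapForm φ (v j)) (fun j => mapForm φ (M j)) (fun j => mapForm φ (ab j)) j := by
  match j with
  | 0 => rfl
  | 1 => exact (mapForm_add φ _ _).trans (congrArg₂ (· + ·) (mapForm_rmul φ _ _ _) (mapForm_rmul φ _ _ _))
  | 2 => exact (mapForm_add φ _ _).trans (congrArg₂ (· + ·) (mapForm_rmul φ _ _ _) (mapForm_rmul φ _ _ _))
  | 3 => exact (mapForm_sub φ _ _).trans (congrArg₂ (· - ·) (mapForm_rmul φ _ _ _) (mapForm_rmul φ _ _ _))

theorem one_le_deg4 (j : Fin 4) : 1 ≤ deg4 j := by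
  match j with
  | 0 => exact le_rfl
  | 1 => exact Nat.le_succ 1
  | 2 => exact (by norm_num : 1 ≤ 3)
  | 3 => exact (by norm_num : 1 ≤ 3)

variable (v : Fin 3 → RForm 4 A 1) (M : Fin 3 → RForm 4 A 2) (ab : Fin 2 → RForm 4 A 1)

theorem g0 : (gforms v M ab 0).1 = (v 0).1 := rfl

theorem g1 : (gforms v M ab 1).1 = (v 1).1 * (ab 0).1 + (v 2).1 * (ab 1).1 := rfl

theorem g2 : (gforms v M ab 2).1 = (v 1).1 * (M 1).1 + (v 2).1 * (M 2).1 := rfl

theorem g3 : (gforms v M ab 3).1 = (ab 0).1 * (M 2).1 - (ab 1).1 * (M 1).1 := rfl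

end Forms

section Rank

variable {R : Type u} [CommRing R]

theorem step {K : Type u} [Field K] [Algebra R K] {a : Fin 4 → ℕ} (G : ∀ j : Fin 4, RForm 4 R (a j))
    (x : Fin (4 + 1) → K) (i : Fin (4 + 1)) (hG : ∀ j, aeval x (G j).1 = 0)
    (hr : 3 ≤ Module.finrank K (Submodule.span K
      (Set.range fun j : Fin 4 => fun l : Fin 4 => aeval x (pderiv (i.succAbove l) (G j).1))))
    (e' : Fin 3 → Fin 4) (d : Fin 4) (hcov : ∀ j, j = d ∨ ∃ m, j = e' m)
    (S : MvPolynomial (Fin (4 + 1)) R) (P : Fin 3 → MvPolynomial (Fin (4 + 1)) R)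
    (hrel : S * (G d).1 = ∑ m, P m * (G (e' m)).1) (hS : aeval x S ≠ 0) :
    ∃ (S : MvPolynomial (Fin (4 + 1)) R) (e' : Fin 3 → Fin 4), aeval x S ≠ 0 ∧
        (∀ j, S * (G j).1 ∈ Ideal.span (Set.range fun m => (G (e' m)).1)) ∧
        LinearIndependent K
          (fun m : Fin 3 => fun l : Fin 4 => aeval x (pderiv (i.succAbove l) (G (e' m)).1)) := by
  refine ⟨S, e', hS, fun j => ?_, ?_⟩
  · rcases hcov j with rfl | ⟨m, rfl⟩
    · rw [hrel]
      exact Ideal.sum_mem _ fun m _ => Ideal.mul_mem_left _ _ (Ideal.subset_span ⟨m, rfl⟩)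
    · exact Ideal.mul_mem_left _ _ (Ideal.subset_span ⟨m, rfl⟩)
  · let w : Fin 4 → (Fin 4 → K) := fun j l => aeval x (pderiv (i.succAbove l) (G j).1)
    have hw : aeval x S • w d = ∑ m, aeval x (P m) • w (e' m) := by
      funext l
      have h1 := congrArg (fun p => aeval x (pderiv (i.succAbove l) p)) hrel
      simp only [Derivation.leibniz, map_add, map_sum, smul_eq_mul, map_mul, hG, zero_mul, add_zero] at h1
      simpa [w, Finset.sum_apply] using h1
    have hd : w d ∈ Submodule.span K (Set.range fun m => w (e' m)) := by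
      have h1 : w d = (aeval x S)⁻¹ • ∑ m, aeval x (P m) • w (e' m) := by
        rw [← hw, smul_smul, inv_mul_cancel₀ hS, one_smul]
      rw [h1]
      exact Submodule.smul_mem _ _ (Submodule.sum_mem _ fun m _ =>
        Submodule.smul_mem _ _ (Submodule.subset_span ⟨m, rfl⟩))
    have hle : Submodule.span K (Set.range w) ≤ Submodule.span K (Set.range fun m => w (e' m)) := by
      rw [Submodule.span_le]
      rintro _ ⟨j, rfl⟩
      rcases hcov j with rfl | ⟨m, rfl⟩
      · exact hd
      · exact Submodule.subset_span ⟨m, rfl⟩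
    change LinearIndependent K (fun m => w (e' m))
    rw [linearIndependent_iff_card_le_finrank_span, Fintype.card_fin, Set.finrank]
    exact hr.trans (Submodule.finrank_mono hle)

theorem finrank_ge {K : Type u} [Field K] (w : Fin 4 → (Fin 4 → K)) (e' : Fin 3 → Fin 4)
    (h : LinearIndependent K (fun m => w (e' m))) : 3 ≤ Module.finrank K (Submodule.span K (Set.range w)) := by
  have h1 := finrank_span_eq_card h
  rw [Fintype.card_fin] at h1
  rw [← h1]
  refine Submodule.finrank_mono (Submodule.span_mono ?_)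
  rintro _ ⟨m, rfl⟩
  exact ⟨e' m, rfl⟩

variable (v : Fin 3 → RForm 4 R 1) (M : Fin 3 → RForm 4 R 2) (ab : Fin 2 → RForm 4 R 1)

theorem exists_entry {K : Type u} [Field K] [Algebra R K] (x : Fin (4 + 1) → K) (i : Fin (4 + 1))
    (hr : 3 ≤ Module.finrank K (Submodule.span K
      (Set.range fun j : Fin 4 => fun l : Fin 4 => aeval x (pderiv (i.succAbove l) (gforms v M ab j).1)))) :
    aeval x (ab 0).1 ≠ 0 ∨ aeval x (ab 1).1 ≠ 0 ∨ aeval x (M 1).1 ≠ 0 ∨ aeval x (M 2).1 ≠ 0 ∨
      aeval x (v 1).1 ≠ 0 ∨ aeval x (v 2).1 ≠ 0 := by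
  by_contra hcon
  push Not at hcon
  obtain ⟨h1, h2, h3, h4, h5, h6⟩ := hcon
  let w : Fin 4 → (Fin 4 → K) := fun j l => aeval x (pderiv (i.succAbove l) (gforms v M ab j).1)
  have hle : Submodule.span K (Set.range w) ≤ Submodule.span K {w 0} := by
    rw [Submodule.span_le]
    rintro _ ⟨j, rfl⟩
    match j with
    | 0 => exact Submodule.subset_span rfl
    | 1 =>
      have : w 1 = 0 := by
        funext l
        change aeval x (pderiv (i.succAbove l) ((v 1).1 * (ab 0).1 + (v 2).1 * (ab 1).1)) = 0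
        simp [Derivation.leibniz, h1, h2, h5, h6]
      rw [this]
      exact zero_mem _
    | 2 =>
      have : w 2 = 0 := by
        funext l
        change aeval x (pderiv (i.succAbove l) ((v 1).1 * (M 1).1 + (v 2).1 * (M 2).1)) = 0
        simp [Derivation.leibniz, h3, h4, h5, h6]
      rw [this]
      exact zero_mem _
    | 3 =>
      have : w 3 = 0 := by
        funext l
        change aeval x (pderiv (i.succAbove l) ((ab 0).1 * (M 2).1 - (ab 1).1 * (M 1).1)) = 0
        simp [Derivation.leibniz, h1, h2, h3, h4]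
      rw [this]
      exact zero_mem _
  have h7 := hr.trans (Submodule.finrank_mono hle)
  have h8 : Module.finrank K (Submodule.span K {w 0}) ≤ 1 := by
    have := finrank_span_le_card (R := K) ({w 0} : Set (Fin 4 → K))
    simpa using this
  omega

/-- The determinantal family is smooth of relative dimension one if the Jacobian matrix has rank at least three. -/
theorem smooth_of_rank (h : ∀ (K : Type u) [Field K] [Algebra R K] (x : Fin (4 + 1) → K) (i : Fin (4 + 1)), x i = 1 →
      (∀ j, aeval x (gforms v M ab j).1 = 0) → ∃ e' : Fin 3 → Fin 4, LinearIndependent K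
          (fun m : Fin 3 => fun l : Fin 4 => aeval x (pderiv (i.succAbove l) (gforms v M ab (e' m)).1))) :
    SmoothOfRelativeDimension 1 (yStr (gforms v M ab)) := by
  refine LocCI.smooth_of_local (c := 3) (gforms v M ab) (by norm_num) fun K _ _ x i hi hG => ?_
  obtain ⟨e₀, he₀⟩ := h K x i hi hG
  have hr := finrank_ge (fun j : Fin 4 => fun l : Fin 4 => aeval x (pderiv (i.succAbove l) (gforms v M ab j).1)) e₀ he₀
  rcases exists_entry v M ab x i hr with hS | hS | hS | hS | hS | hS
  · refine step (gforms v M ab) x i hG hr ![0, 1, 3] 2 (by decide) (ab 0).1 ![0, (M 1).1, (v 2).1] ?_ hS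
    rw [Fin.sum_univ_three]
    simp only [Matrix.cons_val_zero, Matrix.cons_val_one, Matrix.cons_val, g0, g1, g2, g3]
    ring
  · refine step (gforms v M ab) x i hG hr ![0, 1, 3] 2 (by decide) (ab 1).1 ![0, (M 2).1, - (v 1).1] ?_ hS
    rw [Fin.sum_univ_three]
    simp only [Matrix.cons_val_zero, Matrix.cons_val_one, Matrix.cons_val, g0, g1, g2, g3]
    ring
  · refine step (gforms v M ab) x i hG hr ![0, 2, 3] 1 (by decide) (M 1).1 ![0, (ab 0).1, - (v 2).1] ?_ hS
    rw [Fin.sum_univ_three]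
    simp only [Matrix.cons_val_zero, Matrix.cons_val_one, Matrix.cons_val, g0, g1, g2, g3]
    ring
  · refine step (gforms v M ab) x i hG hr ![0, 2, 3] 1 (by decide) (M 2).1 ![0, (ab 1).1, (v 1).1] ?_ hS
    rw [Fin.sum_univ_three]
    simp only [Matrix.cons_val_zero, Matrix.cons_val_one, Matrix.cons_val, g0, g1, g2, g3]
    ring
  · refine step (gforms v M ab) x i hG hr ![0, 1, 2] 3 (by decide) (v 1).1 ![0, (M 2).1, - (ab 1).1] ?_ hS
    rw [Fin.sum_univ_three]
    simp only [Matrix.cons_val_zero, Matrix.cons_val_one, Matrix.cons_val, g0, g1, g2, g3]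
    ring
  · refine step (gforms v M ab) x i hG hr ![0, 1, 2] 3 (by decide) (v 2).1 ![0, - (M 1).1, (ab 0).1] ?_ hS
    rw [Fin.sum_univ_three]
    simp only [Matrix.cons_val_zero, Matrix.cons_val_one, Matrix.cons_val, g0, g1, g2, g3]
    ring

end Rank

section Field

variable {k : Type u} [Field k]

/-- The four forms of a point of the parameter space. -/
noncomputable abbrev qf (q : DataG k) : ∀ j : Fin 4, RForm 4 k (deg4 j) :=
  gforms (fun j => rlin (q.1.1 j)) (fun j => rquad (q.1.2 j)) (fun j => rlin (q.2 j))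

theorem rmul_eq {a b c : ℕ} (F : LefPen.Form 4 k a) (G : LefPen.Form 4 k b) (h : a + b = c) :
    (rmul F G h : RForm 4 k c) = fm F G h := rfl

theorem qf1 (q : DataG k) : qf q 1 = qdG q := by
  change rmul (rlin _) (rlin _) rfl + rmul (rlin _) (rlin _) rfl = _
  rw [rlin_eq, rlin_eq, rlin_eq, rlin_eq]
  rfl

theorem qf2 (q : DataG k) : qf q 2 = cubF q := by
  change rmul (rlin _) (rquad _) rfl + rmul (rlin _) (rquad _) rfl = _
  rw [rlin_eq, rlin_eq, rquad_eq, rquad_eq]
  rfl

theorem qf3 (q : DataG k) : qf q 3 = cubG q := by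
  change rmul (rlin _) (rquad _) rfl - rmul (rlin _) (rquad _) rfl = _
  rw [rlin_eq, rlin_eq, rquad_eq, rquad_eq]
  rfl

theorem cG_eq (q : DataG k) : cG q = rciIdeal (qf q) := by
  have e0 : rhypIdeal (qf q 0) = LefPen.hypIdeal (lin (q.1.1 0)) := by
    change rhypIdeal (rlin (q.1.1 0)) = _
    rw [rlin_eq]
    rfl
  have e1 : rhypIdeal (qf q 1) = LefPen.hypIdeal (qdG q) := congrArg rhypIdeal (qf1 q)
  have e2 : rhypIdeal (qf q 2) = LefPen.hypIdeal (cubF q) := congrArg rhypIdeal (qf2 q)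
  have e3 : rhypIdeal (qf q 3) = LefPen.hypIdeal (cubG q) := congrArg rhypIdeal (qf3 q)
  rw [rciIdeal, cG, ← e0, ← e1, ← e2, ← e3]
  apply le_antisymm
  · refine sup_le (sup_le (sup_le ?_ ?_) ?_) ?_
    · exact le_iSup (fun j => rhypIdeal (qf q j)) 0
    · exact le_iSup (fun j => rhypIdeal (qf q j)) 1
    · exact le_iSup (fun j => rhypIdeal (qf q j)) 2
    · exact le_iSup (fun j => rhypIdeal (qf q j)) 3
  · refine iSup_le fun j => ?_
    match j with
    | 0 => exact (le_sup_left.trans le_sup_left).trans le_sup_left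
    | 1 => exact (le_sup_right.trans le_sup_left).trans le_sup_left
    | 2 => exact le_sup_right.trans le_sup_left
    | 3 => exact le_sup_right

end Field

end K544.QuintDet
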