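import Groth.Agent.Fano.K544.QuintDet
import Groth.Agent.Fano.K544.RankLocus
import Groth.Agent.Fano.K276.QuartFam
import Groth.Agent.Fano.K434.HilbFam

/-!
# GC: the family of residual curves `V_+(v₀, v₁ a + v₂ b, v₁ M₁ + v₂ M₂, a M₂ - b M₁)` and the Hilbert scheme of a cubic
threefold

`exists_poly_of_mem_openG`: near a good point all points of the parameter space are good, with class in the given open
set.
-/

set_option autoImplicit false
universe u

open CategoryTheory AlgebraicGeometry Limits TopologicalSpace Opposite MvPolynomial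

namespace K544.QuintFam

open Groth.Agent.Lefpen.H872.RelCI Groth.Agent.Lefpen.H872.RelBase Groth.Agent.Sga5
open Groth.Agent.CohqB.ProjBC
open Groth.Agent.Fano.K714 Groth.Agent.Fano.K714.Rat Groth.Agent.Fano.K714.Quart Groth.Agent.Fano.K715.Quint
open Groth.Agent.Fano.K276.QuartUniv K544.QuintDet


variable {k : Type u} [Field k]

theorem good_of_smooth [IsAlgClosed k] (q : DataG k) (h : SmoothOfRelativeDimension 1 (yStr (qf q))) : GoodG q := by
  have e := cG_eq q
  rw [GoodG, e]
  have h1 : Nonempty ↥(rciIdeal (qf q)).subscheme := Groth.Agent.Fano.K276.QuartFam.nonempty_Y one_le_deg4 (by norm_num) (qf q)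
  refine ⟨?_, ?_⟩
  · exact SmoothOfRelativeDimension.smooth 1 (yStr (qf q))
  · exact_mod_cast K658.RelDimComp.topologicalKrullDim_eq 1
      ((rciIdeal (qf q)).subschemeι ≫ CohB1.ProjSpace.toSpec 4 k)

/-! ## The universal decomposition -/

/-- The coordinates. -/
abbrev V : Type := ((Fin 3 × Fin 5) ⊕ (Fin 3 × Fin 5 × Fin 5)) ⊕ (Fin 2 × Fin 5)

/-- The universal linear forms. -/
noncomputable def uv (j : Fin 3) (i : Fin 5) : MvPolynomial V k := X (Sum.inl (Sum.inl (j, i)))

/-- The universal quadratic forms. -/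
noncomputable def uM (j : Fin 3) (i l : Fin 5) : MvPolynomial V k := X (Sum.inl (Sum.inr (j, i, l)))

/-- The two further linear forms. -/
noncomputable def ua (j : Fin 2) (i : Fin 5) : MvPolynomial V k := X (Sum.inr (j, i))

theorem eval_uv (q : DataG k) (j : Fin 3) (i : Fin 5) : eval (coordG q) (uv j i) = q.1.1 j i := by
  simp [uv, coordG, coord]

theorem eval_uM (q : DataG k) (j : Fin 3) (i l : Fin 5) : eval (coordG q) (uM j i l) = q.1.2 j i l := by
  simp [uM, coordG, coord]

theorem eval_ua (q : DataG k) (j : Fin 2) (i : Fin 5) : eval (coordG q) (ua j i) = q.2 j i := by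
  simp [ua, coordG]

/-- The universal forms. -/
noncomputable def uforms : ∀ j : Fin 4, RForm 4 (MvPolynomial V k) (deg4 j) :=
  gforms (fun j => rlin (uv j)) (fun j => rquad (uM j)) (fun j => rlin (ua j))

theorem mapForm_uforms (q : DataG k) (j : Fin 4) : mapForm (eval (coordG q)) (uforms j) = qf q j := by
  rw [uforms, mapForm_gforms]
  simp_rw [mapForm_rlin, mapForm_rquad, eval_uv, eval_uM, eval_ua]

/-- The universal relation. -/
noncomputable def rel (f : LefPen.Form 4 k 3) : MvPolynomial (Fin 5) (MvPolynomial V k) :=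
  MvPolynomial.map C f.1 - ∑ j : Fin 3, (rlin (uv j)).1 * (rquad (uM j)).1

/-- The ideal of the universal relation. -/
noncomputable def relIdeal (f : LefPen.Form 4 k 3) : Ideal (MvPolynomial V k) :=
  Ideal.span (Set.range fun m => coeff m (rel f))

theorem map_rel (f : LefPen.Form 4 k 3) {R : Type u} [CommRing R] (ψ : MvPolynomial V k →+* R) :
    MvPolynomial.map ψ (rel f) = MvPolynomial.map (ψ.comp C) f.1 -
      ∑ j : Fin 3, (rlin fun i => ψ (uv j i)).1 * (rquad fun i l => ψ (uM j i l)).1 := by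
  rw [rel, map_sub, MvPolynomial.map_map, map_sum]
  congr 1
  refine Finset.sum_congr rfl fun j _ => ?_
  rw [map_mul, ← mapForm_val, ← mapForm_val, mapForm_rlin, mapForm_rquad]

theorem relIdeal_le_iff (f : LefPen.Form 4 k 3) {R : Type u} [CommRing R] (ψ : MvPolynomial V k →+* R) :
    relIdeal f ≤ RingHom.ker ψ ↔ MvPolynomial.map (ψ.comp C) f.1 =
      ∑ j : Fin 3, (rlin fun i => ψ (uv j i)).1 * (rquad fun i l => ψ (uM j i l)).1 := by
  rw [← sub_eq_zero, ← map_rel, relIdeal, Ideal.span_le, MvPolynomial.ext_iff]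
  constructor
  · intro h m
    rw [coeff_map, coeff_zero]
    exact h ⟨m, rfl⟩
  · rintro h _ ⟨m, rfl⟩
    have := h m
    rwa [coeff_map, coeff_zero] at this

theorem relIdeal_le_of_mem {f : LefPen.Form 4 k 3} {q : DataG k} (hq : q.1 ∈ Sol f) :
    relIdeal f ≤ RingHom.ker (eval (coordG q)) := by
  rw [relIdeal_le_iff]
  simp_rw [eval_uv, eval_uM]
  have h1 : (eval (coordG q)).comp (C : k →+* MvPolynomial V k) = RingHom.id k := by
    ext c; simp
  rw [h1, MvPolynomial.map_id, hq.2]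
  refine Finset.sum_congr rfl fun j _ => ?_
  have e1 : rlin (q.1.1 j) = lin (q.1.1 j) := rlin_eq _
  have e2 : rquad (q.1.2 j) = quad (q.1.2 j) := rquad_eq _
  rw [← e1, ← e2]

theorem mem_span_of_rel (f : LefPen.Form 4 k 3) {R : Type u} [CommRing R] (ψ : MvPolynomial V k →+* R)
    (h : relIdeal f ≤ RingHom.ker ψ) : MvPolynomial.map (ψ.comp C) f.1 ∈
      Ideal.span (Set.range fun j => (mapForm ψ (uforms j)).1) := by
  rw [(relIdeal_le_iff f ψ).1 h, Fin.sum_univ_three, add_assoc]
  have h0 : (mapForm ψ (uforms 0)).1 = (rlin fun i => ψ (uv 0 i)).1 := by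
    rw [uforms, mapForm_gforms, g0, mapForm_rlin]
  have h2 : (mapForm ψ (uforms 2)).1 = (rlin fun i => ψ (uv 1 i)).1 * (rquad fun i l => ψ (uM 1 i l)).1 +
      (rlin fun i => ψ (uv 2 i)).1 * (rquad fun i l => ψ (uM 2 i l)).1 := by
    rw [uforms, mapForm_gforms, g2, mapForm_rlin, mapForm_rlin, mapForm_rquad, mapForm_rquad]
  refine Ideal.add_mem _ (Ideal.mul_mem_right _ _ ?_) ?_
  · rw [← h0]; exact Ideal.subset_span ⟨0, rfl⟩
  · rw [← h2]; exact Ideal.subset_span ⟨2, rfl⟩

/-! ## The main theorem -/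

theorem exists_poly_of_mem_openG [IsAlgClosed k] (f : LefPen.Form 4 k 3) (H : Over (Spec (CommRingCat.of k)))
    (Z : FGA.HilbSet (ps f) H) (hH : FGA.HilbRepresentedBy (ps f) H Z) (A : H.left.Opens)
    {q₀ : DataG k} (hq₀ : q₀.1 ∈ Sol f) (hgood : GoodG q₀) {x₀ : ↥H.left} (hx₀ : IsClassG f H Z q₀ x₀)
    (hA : x₀ ∈ A) :
    ∃ G : MvPolynomial (((Fin 3 × Fin 5) ⊕ (Fin 3 × Fin 5 × Fin 5)) ⊕ (Fin 2 × Fin 5)) k,
      MvPolynomial.eval (coordG q₀) G ≠ 0 ∧
      ∀ q : DataG k, q.1 ∈ Sol f → MvPolynomial.eval (coordG q) G ≠ 0 → GoodG q ∧ ∃ x ∈ A, IsClassG f H Z q x := by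
  have hsm₀ : Smooth (yStr (qf q₀)) ∧ topologicalKrullDim (Y (qf q₀)) = 1 := by
    have h := hgood
    rw [GoodG, cG_eq q₀] at h
    exact h
  have hsurj : Function.Surjective (eval (coordG q₀) : MvPolynomial V k →+* k) := fun c => ⟨C c, eval_C c⟩
  have hforms₀ : (fun j => mapForm (eval (coordG q₀)) (uforms j)) = qf q₀ := funext fun j => mapForm_uforms q₀ j
  obtain ⟨g, hg, hgsm⟩ := RankLocus.exists_locus (eval (coordG q₀)) hsurj (uforms (k := k)) (D := 1) (c := 3)
    (by norm_num) (by rw [hforms₀]; exact hsm₀.1) (by rw [hforms₀, hsm₀.2]; exact le_rfl)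
  -- the base ring
  let mk : MvPolynomial V k →+* (MvPolynomial V k ⧸ relIdeal f) := Ideal.Quotient.mk (relIdeal f)
  let R : Type u := Localization.Away (mk g)
  let loc : (MvPolynomial V k ⧸ relIdeal f) →+* R := algebraMap _ R
  let ψ : MvPolynomial V k →+* R := loc.comp mk
  have hψu : IsUnit (ψ g) := IsLocalization.Away.algebraMap_isUnit (mk g)
  have hψk : relIdeal f ≤ RingHom.ker ψ := by
    intro x hx
    rw [RingHom.mem_ker]
    change loc (mk x) = 0
    rw [show mk x = 0 from Ideal.Quotient.eq_zero_iff_mem.2 hx, map_zero]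
  have hnoeth : IsNoetherianRing R := IsLocalization.isNoetherianRing (Submonoid.powers (mk g)) R inferInstance
  let σ : k →+* R := ψ.comp C
  let G : ∀ j : Fin 4, RForm 4 R (deg4 j) := fun j => mapForm ψ (uforms j)
  have hG : SmoothOfRelativeDimension 1 (yStr G) := by
    have e : G = gforms (fun j => mapForm ψ (rlin (uv j))) (fun j => mapForm ψ (rquad (uM j)))
        (fun j => mapForm ψ (rlin (ua j))) := funext fun j => mapForm_gforms ψ _ _ _ j
    have h := hgsm R ψ hψu
    change ∀ (K : Type u) [Field K] [Algebra R K] (v : Fin (4 + 1) → K) (i : Fin (4 + 1)), v i = 1 →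
        (∀ j, aeval v (G j).1 = 0) → ∃ e' : Fin 3 → Fin 4,
          LinearIndependent K (fun m : Fin 3 => fun l : Fin 4 =>
            aeval v (pderiv (i.succAbove l) (G (e' m)).1)) at h
    rw [e] at h ⊢
    exact smooth_of_rank _ _ _ h
  have hGs : Smooth (yStr G) := SmoothOfRelativeDimension.smooth 1 (yStr G)
  have hmem : MvPolynomial.map σ f.1 ∈ Ideal.span (Set.range fun j => (G j).1) := mem_span_of_rel f ψ hψk
  obtain ⟨gH, hgH⟩ := Groth.Agent.Fano.K434.HilbFam.exists_hom_of_family (ps f) H Z hH R σ (yStr G)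
    (toXf σ f G hmem) (toXf_ps σ f G hmem) (isClosedImmersion_lift σ f G hmem)
  -- the points
  have hpt : ∀ q : DataG k, q.1 ∈ Sol f → eval (coordG q) g ≠ 0 → ∃ m : R →+* k, m.comp ψ = eval (coordG q) := by
    intro q hq hqg
    let m0 : (MvPolynomial V k ⧸ relIdeal f) →+* k :=
      Ideal.Quotient.lift (relIdeal f) (eval (coordG q)) fun a ha => relIdeal_le_of_mem hq ha
    have hm0 : ∀ p, m0 (mk p) = eval (coordG q) p := fun p => Ideal.Quotient.lift_mk _ _ _
    have hu : IsUnit (m0 (mk g)) := by rw [hm0]; exact hqg.isUnit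
    refine ⟨IsLocalization.Away.lift (mk g) hu, ?_⟩
    ext p
    · change IsLocalization.Away.lift (mk g) hu (loc (mk (C p))) = _
      rw [IsLocalization.Away.lift_eq, hm0]
      rfl
    · change IsLocalization.Away.lift (mk g) hu (loc (mk (X p))) = _
      rw [IsLocalization.Away.lift_eq, hm0]
  have hid : ∀ (q : DataG k) (m : R →+* k), m.comp ψ = eval (coordG q) → m.comp σ = RingHom.id k := by
    intro q m hm
    have : m.comp σ = (m.comp ψ).comp C := rfl
    rw [this, hm]
    ext c; simp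
  have hid' : ∀ (q : DataG k) (m : R →+* k), m.comp ψ = eval (coordG q) →
      Spec.map (CommRingCat.ofHom m) ≫ Spec.map (CommRingCat.ofHom σ) = 𝟙 (Spec (CommRingCat.of k)) := by
    intro q m hm
    rw [← Spec.map_comp, ← CommRingCat.ofHom_comp, hid q m hm, CommRingCat.ofHom_id, Spec.map_id]
  have hGq : ∀ (q : DataG k) (m : R →+* k), m.comp ψ = eval (coordG q) → ∀ j, qf q j = mapForm m (G j) := by
    intro q m hm j
    rw [← mapForm_uforms]
    apply Subtype.ext
    change MvPolynomial.map (eval (coordG q)) (uforms j).1 = MvPolynomial.map m (MvPolynomial.map ψ (uforms j).1)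
    rw [MvPolynomial.map_map, hm]
  -- classes
  have hclass : ∀ (q : DataG k) (m : R →+* k) (hm : m.comp ψ = eval (coordG q)),
      FGA.hilbPull (ps f) ((Over.homMk (Spec.map (CommRingCat.ofHom m)) (hid' q m hm) :
            pt k ⟶ Over.mk (Spec.map (CommRingCat.ofHom σ))) ≫ gH) Z.1 =
        ((cG q).comap (emb f)).comap (pullback.fst (ps f) (pt k).hom) := by
    intro q m hm
    have h1 := hgH m (hid' q m hm) (Y (qf q)) (yStr (qf q)) (rMap m G (qf q) (hGq q m hm))
      (isPullback_rMap_toSpec m G (qf q) (hGq q m hm))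
    rw [ker_fibre σ f G hmem m (hid q m hm) (qf q) (hGq q m hm)] at h1
    rw [h1, cG_eq q]
  have hgoodq : ∀ (q : DataG k) (m : R →+* k), m.comp ψ = eval (coordG q) → GoodG q := by
    intro q m hm
    refine good_of_smooth q ?_
    have := smoothOfRelativeDimension_isStableUnderBaseChange 1
    exact MorphismProperty.of_isPullback (P := @SmoothOfRelativeDimension 1)
      (isPullback_rMap_toSpec m G (qf q) (hGq q m hm)) hG
  -- the point of q₀
  have hg₀ : eval (coordG q₀) g ≠ 0 := by rw [hg]; exact one_ne_zero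
  obtain ⟨m₀, hm₀⟩ := hpt q₀ hq₀ hg₀
  obtain ⟨h₀, hx₀', hh₀⟩ := hx₀
  have huniq : h₀ = (Over.homMk (Spec.map (CommRingCat.ofHom m₀)) (hid' q₀ m₀ hm₀) :
            pt k ⟶ Over.mk (Spec.map (CommRingCat.ofHom σ))) ≫ gH := by
    have hln : IsLocallyNoetherian (pt k).left := inferInstanceAs (IsLocallyNoetherian (Spec (CommRingCat.of k)))
    refine (hH.2 (pt k) ⟨FGA.hilbPull (ps f) h₀ Z.1, Groth.Agent.Fga.HilbClosed.mem_hilbPull _ h₀ Z⟩).unique rfl ?_
    change _ = FGA.hilbPull (ps f) h₀ Z.1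
    rw [hclass q₀ m₀ hm₀, hh₀]
  let A' : (Spec (CommRingCat.of R)).Opens := gH.left ⁻¹ᵁ A
  have hp₀ : (Spec.map (CommRingCat.ofHom m₀)).base (IsLocalRing.closedPoint k) ∈ A' := by
    change gH.left.base ((Spec.map (CommRingCat.ofHom m₀)).base (IsLocalRing.closedPoint k)) ∈ A
    rw [hx₀', huniq] at hA
    exact hA
  obtain ⟨_, ⟨s, rfl⟩, hs₀, hsA⟩ := PrimeSpectrum.isTopologicalBasis_basic_opens.exists_subset_of_mem_open hp₀ A'.2
  have hs₀' : m₀ s ≠ 0 := (Groth.Agent.Fano.K276.QuartFam.mem_basicOpen_comap m₀ s).1 hs₀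
  obtain ⟨n, s', hs'⟩ := IsLocalization.Away.surj (mk g) s
  obtain ⟨t, rfl⟩ := Ideal.Quotient.mk_surjective s'
  have hst : ∀ (q : DataG k) (m : R →+* k), m.comp ψ = eval (coordG q) →
      m s * eval (coordG q) g ^ n = eval (coordG q) t := by
    intro q m hm
    have h1 := congrArg m hs'
    rw [map_mul, map_pow] at h1
    have h2 : ∀ p, m (algebraMap _ R (mk p)) = eval (coordG q) p := fun p => congr($hm p)
    rw [h2] at h1
    rw [h1]
    exact h2 t
  refine ⟨g * t, ?_, ?_⟩
  · rw [map_mul, hg, one_mul, ← hst q₀ m₀ hm₀, hg, one_pow, mul_one]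
    exact hs₀'
  · intro q hq hqgt
    rw [map_mul] at hqgt
    have hqg : eval (coordG q) g ≠ 0 := left_ne_zero_of_mul hqgt
    have hqt : eval (coordG q) t ≠ 0 := right_ne_zero_of_mul hqgt
    obtain ⟨m, hm⟩ := hpt q hq hqg
    refine ⟨hgoodq q m hm, ?_⟩
    have hms : m s ≠ 0 := by
      rw [← hst q m hm] at hqt
      exact left_ne_zero_of_mul hqt
    have hin := hsA ((Groth.Agent.Fano.K276.QuartFam.mem_basicOpen_comap m s).2 hms)
    refine ⟨gH.left.base ((Spec.map (CommRingCat.ofHom m)).base (IsLocalRing.closedPoint k)), hin, ?_⟩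
    exact ⟨(Over.homMk (Spec.map (CommRingCat.ofHom m)) (hid' q m hm) :
            pt k ⟶ Over.mk (Spec.map (CommRingCat.ofHom σ))) ≫ gH, rfl, hclass q m hm⟩

end K544.QuintFam
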